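import Groth.Agent.VerschLib.Basic

/-!
# Etale Cartier dual and bijective Verschiebung
-/

set_option autoImplicit false

universe u v

namespace Groth.Agent.VerschLib

open scoped TensorProduct
open WithConv

variable (p : ℕ) [Fact p.Prime] {k : Type u} [Field k] [CharP k p]

section Rel

variable {B : Type v} [CommRing B] [Algebra k B] [CharP B p]

/-- The image of the relative Frobenius as a subspace. -/
noncomputable def relRange : Submodule k B where
  carrier := Set.range (FrobAlg.relFrob p k B)
  zero_mem' := ⟨0, map_zero _⟩
  add_mem' := by rintro _ _ ⟨a, rfl⟩ ⟨b, rfl⟩; exact ⟨a + b, map_add _ _ _⟩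
  smul_mem' := by
    rintro c _ ⟨z, rfl⟩
    refine ⟨z * (1 ⊗ₜ FrobAlg.toTwist p k c), ?_⟩
    rw [map_mul, relFrob_tmul, one_pow, _root_.one_mul, RingEquiv.symm_apply_apply, Algebra.smul_def, mul_comm]

theorem formallyUnramified_of_surjective (h : Function.Surjective (FrobAlg.relFrob p k B)) :
    Algebra.FormallyUnramified k B := by
  rw [Algebra.formallyUnramified_iff]
  have hp : (p : B) = 0 := CharP.cast_eq_zero B p
  have hD : ∀ b : B, KaehlerDifferential.D k B b = 0 := by
    intro b
    obtain ⟨z, rfl⟩ := h b
    induction z using TensorProduct.induction_on with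
    | zero => rw [map_zero, map_zero]
    | add x y hx hy => rw [map_add, map_add, hx, hy, add_zero]
    | tmul a t =>
      rw [relFrob_tmul, Derivation.leibniz, Derivation.map_algebraMap, smul_zero, zero_add, Derivation.leibniz_pow,
        ← Nat.cast_smul_eq_nsmul B p, hp, zero_smul, smul_zero]
  have htop : (⊤ : Submodule B Ω[B⁄k]) ≤ ⊥ := by
    rw [← KaehlerDifferential.span_range_derivation, Submodule.span_le]
    rintro _ ⟨b, rfl⟩
    exact hD b
  exact (subsingleton_iff_forall_eq 0).2 fun w => htop (Submodule.mem_top (x := w))

theorem surjective_relFrob_of_etale [FiniteDimensional k B] [Algebra.Etale k B] :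
    Function.Surjective (FrobAlg.relFrob p k B) := by
  haveI : IsReduced (FrobAlg.Twist p k ⊗[k] B) := by
    letI : Field (FrobAlg.Twist p k) := inferInstanceAs (Field k)
    exact Algebra.FormallyUnramified.isReduced_of_field (FrobAlg.Twist p k) _
  haveI : IsReduced (FrobAlg.BaseChange p k B) :=
    isReduced_of_injective (Algebra.TensorProduct.comm k B (FrobAlg.Twist p k)).toRingEquiv.toRingHom
      (Algebra.TensorProduct.comm k B (FrobAlg.Twist p k)).injective
  have hp : (p : FrobAlg.BaseChange p k B) = 0 := by
    rw [← map_natCast (algebraMap k (FrobAlg.BaseChange p k B)) p, CharP.cast_eq_zero, map_zero]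
  have hinj : ∀ z : FrobAlg.BaseChange p k B, FrobAlg.relFrob p k B z = 0 → z = 0 := by
    intro z hz
    have hpow : ∀ z : FrobAlg.BaseChange p k B, z ^ p = (FrobAlg.relFrob p k B z) ⊗ₜ[k] (1 : FrobAlg.Twist p k) := by
      intro z
      induction z using TensorProduct.induction_on with
      | zero => rw [map_zero, TensorProduct.zero_tmul, zero_pow (Fact.out : p.Prime).ne_zero]
      | add x y hx hy =>
        have := isReduced_aux p hp (Finset.univ : Finset (Fin 2)) ![x, y]
        simp only [Fin.sum_univ_two, Matrix.cons_val_zero, Matrix.cons_val_one] at this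
        rw [this, hx, hy, map_add, TensorProduct.add_tmul]
      | tmul a t =>
        rw [Algebra.TensorProduct.tmul_pow, relFrob_tmul, mul_comm, ← Algebra.smul_def, TensorProduct.smul_tmul,
          Algebra.smul_def, _root_.mul_one]
        congr 1
    have hzz : z ^ p = 0 := by rw [hpow, hz, TensorProduct.zero_tmul]
    exact eq_zero_of_pow_eq_zero hzz
  let e := Module.finBasis k B
  have hli : LinearIndependent k fun i => e i ^ p := by
    rw [Fintype.linearIndependent_iff]
    intro c hc i
    have h0 : (∑ j, e j ⊗ₜ[k] FrobAlg.toTwist p k (c j)) = (0 : FrobAlg.BaseChange p k B) := by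
      apply hinj
      rw [map_sum, ← hc]
      refine Finset.sum_congr rfl fun j _ => ?_
      rw [relFrob_tmul, RingEquiv.symm_apply_apply, Algebra.smul_def, mul_comm]
    have := congrArg ((TensorProduct.lid k (FrobAlg.Twist p k)).toLinearMap ∘ₗ LinearMap.rTensor (FrobAlg.Twist p k) (e.coord i)) h0
    simp [Finsupp.single_apply] at this
    exact this
  intro y
  have hy : y ∈ Submodule.span k (Set.range fun i => e i ^ p) := by
    rw [hli.span_eq_top_of_card_eq_finrank' (Fintype.card_fin _)]
    trivial
  exact (Submodule.span_le (p := relRange p)).2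
    (by rintro _ ⟨i, rfl⟩; exact ⟨e i ⊗ₜ 1, by rw [relFrob_tmul, map_one, map_one, _root_.mul_one]⟩) hy

theorem etale_iff_surjective_relFrob [FiniteDimensional k B] :
    Algebra.Etale k B ↔ Function.Surjective (FrobAlg.relFrob p k B) := by
  refine ⟨fun _ => surjective_relFrob_of_etale p, fun h => ?_⟩
  haveI := formallyUnramified_of_surjective p h
  haveI : Algebra.FormallyEtale k B := Algebra.FormallyEtale.iff_formallyUnramified_of_field.2 inferInstance
  haveI : Algebra.FinitePresentation k B := Algebra.FinitePresentation.of_finiteType.1 inferInstance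
  exact ⟨inferInstance, inferInstance⟩

end Rel

variable {A : Type v} [CommRing A] [HopfAlgebra k A] [Coalgebra.IsCocomm k A] [FiniteDimensional k A]

theorem bijective_versch_iff {v : A →+* FrobAlg.BaseChange p k A} (hv : Versch.IsVerschiebung p k A v) :
    Function.Bijective v ↔ Function.Surjective (FrobAlg.relFrob p k (CartDual.D k A)) := by
  constructor
  · intro hb
    by_contra hsurj
    have hne : relRange p (k := k) (B := CartDual.D k A) < ⊤ := by
      rw [lt_top_iff_ne_top]
      intro h
      exact hsurj fun y => (h ▸ Submodule.mem_top : y ∈ relRange p)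
    obtain ⟨φ, hφ0, hφ⟩ := Submodule.exists_le_ker_of_lt_top _ hne
    obtain ⟨a, ha⟩ := (Module.evalEquiv k A).surjective (φ ∘ₗ (CartDual.toDual k A).symm.toLinearMap)
    have hφa : ∀ x : CartDual.D k A, φ x = x a := fun x => by
      have := LinearMap.congr_fun ha x.ofConv
      simpa [CartDual.coe_apply] using this.symm
    have hva : v a = 0 := by
      refine Versch.evTw_injective p k A fun x => ?_
      rw [(Versch.isVerschiebung_iff p k A v).1 hv, map_zero, ← hφa,
        show φ (x ^ p) = 0 from hφ ⟨x ⊗ₜ 1, by rw [relFrob_tmul, map_one, map_one, _root_.mul_one]⟩, map_zero]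
    refine hφ0 (LinearMap.ext fun x => ?_)
    rw [hφa, hb.1 (hva.trans (map_zero v).symm), LinearMap.zero_apply]
    exact map_zero x.ofConv
  · intro hsurj
    have hinj : Function.Injective v := by
      refine (injective_iff_map_eq_zero v).2 fun a ha => ?_
      refine (Module.forall_dual_apply_eq_zero_iff k a).1 fun f => ?_
      obtain ⟨z, hz⟩ := hsurj (toConv f)
      have : ∀ z, (FrobAlg.relFrob p k (CartDual.D k A) z) a = 0 := by
        intro z
        induction z using TensorProduct.induction_on with
        | zero => rw [map_zero]; rfl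
        | add x y hx hy =>
          rw [map_add]
          show (FrobAlg.relFrob p k (CartDual.D k A) x) a + (FrobAlg.relFrob p k (CartDual.D k A) y) a = 0
          rw [hx, hy, add_zero]
        | tmul x t =>
          apply (FrobAlg.toTwist p k).injective
          rw [← hv a x t, ha, map_zero, zero_mul, map_zero]
      have h2 := this z
      rw [hz] at h2
      exact h2
    refine ⟨hinj, ?_⟩
    let e := Module.finBasis k A
    let x : Fin (Module.finrank k A) → CartDual.D k A := fun i => toConv (e.coord i)
    have hb : ∀ a, ∑ i, x i a • e i = a := fun a => e.sum_repr a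
    let M : A →ₗ[k] (Fin (Module.finrank k A) → k) := LinearMap.pi fun i => (x i ^ p).ofConv
    have hMv : ∀ a, v a = ∑ i, e i ⊗ₜ[k] FrobAlg.toTwist p k (M a i) := fun a => versch_eq p hv hb a
    have hMinj : Function.Injective M := fun a a' h => hinj (by rw [hMv, hMv, h])
    have hMsurj : Function.Surjective M :=
      (LinearMap.injective_iff_surjective_of_finrank_eq_finrank (by rw [Module.finrank_fin_fun])).1 hMinj
    have hgen : ∀ z : FrobAlg.BaseChange p k A, ∃ c : Fin (Module.finrank k A) → k,
        z = ∑ i, e i ⊗ₜ[k] FrobAlg.toTwist p k (c i) := by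
      intro z
      induction z using TensorProduct.induction_on with
      | zero => exact ⟨0, by simp⟩
      | add z z' hz hz' =>
        obtain ⟨c, rfl⟩ := hz
        obtain ⟨c', rfl⟩ := hz'
        exact ⟨c + c', by rw [← Finset.sum_add_distrib]; exact Finset.sum_congr rfl fun i _ => by rw [Pi.add_apply, map_add, TensorProduct.tmul_add]⟩
      | tmul a t =>
        refine ⟨fun i => (FrobAlg.toTwist p k).symm (e.repr a i • t), ?_⟩
        conv_lhs => rw [← e.sum_repr a, TensorProduct.sum_tmul]
        refine Finset.sum_congr rfl fun i _ => ?_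
        rw [RingEquiv.apply_symm_apply, TensorProduct.smul_tmul]
    intro z
    obtain ⟨c, rfl⟩ := hgen z
    obtain ⟨a, ha⟩ := hMsurj c
    exact ⟨a, by rw [hMv, ha]⟩

end Groth.Agent.VerschLib
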