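import Groth.Prelude.Def_Versch
import Groth.Prelude.Def_SGA3b
import Mathlib

/-!
# The Verschiebung in coordinates
-/

set_option autoImplicit false

universe u v

namespace Groth.Agent.VerschLib

open scoped TensorProduct
open WithConv

variable (p : ℕ) [Fact p.Prime] {R : Type u} [CommRing R] [CharP R p]
  {A : Type v} [CommRing A] [HopfAlgebra R A]

omit [Fact p.Prime] [CharP R p] in
theorem smulRight_convMul (x y : CartDual.D R A) (b c : A) :
    toConv (x.ofConv.smulRight b) * toConv (y.ofConv.smulRight c) = toConv ((x * y).ofConv.smulRight (b * c)) := by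
  apply WithConv.ofConv_injective
  refine LinearMap.ext fun a => ?_
  show (toConv (x.ofConv.smulRight b) * toConv (y.ofConv.smulRight c)) a = (x * y) a • (b * c)
  rw [(Coalgebra.Repr.arbitrary R a).convMul_apply, (Coalgebra.Repr.arbitrary R a).convMul_apply, Finset.sum_smul]
  refine Finset.sum_congr rfl fun i _ => ?_
  exact smul_mul_smul_comm _ _ _ _

omit [Fact p.Prime] [CharP R p] in
theorem smulRight_convPow (x : CartDual.D R A) (b : A) (n : ℕ) :
    toConv (x.ofConv.smulRight b) ^ n = toConv ((x ^ n).ofConv.smulRight (b ^ n)) := by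
  induction n with
  | zero =>
    apply WithConv.ofConv_injective
    refine LinearMap.ext fun a => ?_
    show algebraMap R A (Coalgebra.counit a) = algebraMap R R (Coalgebra.counit a) • (b ^ 0)
    simp [Algebra.algebraMap_eq_smul_one]
  | succ n ih => rw [pow_succ, ih, smulRight_convMul, ← pow_succ, ← pow_succ]

section Frame

variable (R A) in
omit [Fact p.Prime] [CharP R p] in
/-- A finite projective module has a finite frame. -/
theorem exists_frame [Module.Finite R A] [Module.Projective R A] :
    ∃ (n : ℕ) (b : Fin n → A) (x : Fin n → CartDual.D R A), ∀ a, ∑ i, x i a • b i = a := by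
  obtain ⟨n, f, hf⟩ := Module.Finite.exists_fin' R A
  obtain ⟨g, hg⟩ := Module.projective_lifting_property f LinearMap.id hf
  refine ⟨n, fun i => f (Pi.single i 1), fun i => toConv ((LinearMap.proj i).comp g), fun a => ?_⟩
  conv_rhs => rw [show a = f (g a) from (LinearMap.congr_fun hg a).symm, pi_eq_sum_univ' (g a), map_sum]
  simp

omit [CharP R p] in
theorem isReduced_aux {S : Type*} [CommRing S] (h : (p : S) = 0) {ι : Type*} (s : Finset ι) (f : ι → S) :
    (∑ i ∈ s, f i) ^ p = ∑ i ∈ s, f i ^ p := by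
  rcases subsingleton_or_nontrivial S with hS | hS
  · exact Subsingleton.elim _ _
  · haveI : CharP S p := (CharP.charP_iff_prime_eq_zero (Fact.out : p.Prime)).2 h
    exact sum_pow_char p s f

variable [Coalgebra.IsCocomm R A] {n : ℕ} {b : Fin n → A} {x : Fin n → CartDual.D R A}

/-- The Verschiebung in coordinates. -/
theorem versch_eq [Module.Finite R A] [Module.Projective R A] {v : A →+* FrobAlg.BaseChange p R A}
    (hv : Versch.IsVerschiebung p R A v) (hb : ∀ a, ∑ i, x i a • b i = a) (a : A) :
    v a = ∑ i, b i ⊗ₜ[R] FrobAlg.toTwist p R ((x i ^ p) a) := by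
  rw [Versch.isVerschiebung_iff] at hv
  refine Versch.evTw_injective p R A fun y => ?_
  have hy : y = ∑ i, y (b i) • x i := by
    apply WithConv.ofConv_injective
    refine LinearMap.ext fun a => ?_
    conv_lhs => rw [← hb a, map_sum]
    rw [WithConv.ofConv_sum, LinearMap.sum_apply]
    refine Finset.sum_congr rfl fun i _ => ?_
    rw [map_smul, WithConv.ofConv_smul, LinearMap.smul_apply, smul_eq_mul, smul_eq_mul, mul_comm]
  rw [hv a y, map_sum]
  simp only [Versch.evTw_tmul', ← map_mul, ← map_sum]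
  congr 1
  conv_lhs => rw [hy, sum_pow_char p]
  show (∑ i, (y (b i) • x i) ^ p).ofConv a = _
  rw [WithConv.ofConv_sum, LinearMap.sum_apply]
  refine Finset.sum_congr rfl fun i _ => ?_
  rw [smul_pow, WithConv.ofConv_smul, LinearMap.smul_apply, smul_eq_mul]

end Frame

section Cast

variable [CharP A p]

omit [HopfAlgebra R A] in
theorem relFrob_tmul [Algebra R A] (a : A) (s : FrobAlg.Twist p R) :
    FrobAlg.relFrob p R A (a ⊗ₜ s) = a ^ p * algebraMap R A ((FrobAlg.toTwist p R).symm s) := by
  simp [FrobAlg.relFrob, FrobAlg.frobHom, FrobAlg.inclHom, Algebra.TensorProduct.lift_tmul]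
  rfl

end Cast

section Pow

variable {A : Type u} [CommRing A] [HopfAlgebra R A]

section
variable [Coalgebra.IsCocomm R A] {n : ℕ} {b : Fin n → A} {x : Fin n → CartDual.D R A}

/-- The `p`-th power map of the group in coordinates. -/
theorem powConv_eq (hb : ∀ a, ∑ i, x i a • b i = a) (a : A) :
    SGA3b.powConv R A p a = ∑ i, (x i ^ p) a • b i ^ p := by
  have hid : toConv (AlgHom.id R A).toLinearMap = ∑ i, toConv ((x i).ofConv.smulRight (b i)) := by
    apply WithConv.ofConv_injective
    refine LinearMap.ext fun a => ?_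
    rw [WithConv.ofConv_sum, LinearMap.sum_apply]
    exact (hb a).symm
  have h : toConv (SGA3b.powConv R A p).toLinearMap = ∑ i, toConv ((x i ^ p).ofConv.smulRight (b i ^ p)) := by
    rw [SGA3b.powConv, AlgHom.toLinearMap_convPow, ofConv_toConv, hid, isReduced_aux p]
    · exact Finset.sum_congr rfl fun i _ => smulRight_convPow _ _ _
    · rw [← map_natCast (algebraMap R (WithConv (A →ₗ[R] A))) p, CharP.cast_eq_zero, map_zero]
  have := congrArg (fun f : WithConv (A →ₗ[R] A) => f.ofConv a) h
  simpa [WithConv.ofConv_sum] using this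

end

omit [Fact p.Prime] [CharP R p] in
theorem powConv_comp (m k : ℕ) (a : A) :
    SGA3b.powConv R A m (SGA3b.powConv R A k a) = SGA3b.powConv R A (m * k) a := by
  have h : ∀ k, toConv ((SGA3b.powConv R A m).comp (SGA3b.powConv R A k)) = toConv (AlgHom.id R A) ^ (m * k) := by
    intro k
    induction k with
    | zero => exact WithConv.ofConv_injective (AlgHom.ext fun a => (SGA3b.powConv R A m).commutes _)
    | succ k ih =>
      rw [Nat.mul_succ, pow_add, ← ih]
      apply WithConv.ofConv_injective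
      rw [ofConv_toConv]
      conv_lhs => rw [SGA3b.powConv, SGA3b.powConv, pow_succ, AlgHom.comp_convMul_distrib]
      rfl
  exact AlgHom.congr_fun (congrArg ofConv (h k)) a

omit [Fact p.Prime] [CharP R p] in
theorem counit_powConv (k : ℕ) (a : A) :
    Coalgebra.counit (R := R) (SGA3b.powConv R A k a) = Coalgebra.counit a := by
  have h : toConv ((Bialgebra.counitAlgHom R A).comp (SGA3b.powConv R A k)) = 1 := by
    induction k with
    | zero => exact WithConv.ofConv_injective (AlgHom.ext fun a => (Bialgebra.counitAlgHom R A).commutes _)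
    | succ k ih =>
      have e1 : toConv ((Bialgebra.counitAlgHom R A).comp (AlgHom.id R A)) = 1 := rfl
      have e2 : (Bialgebra.counitAlgHom R A).comp (SGA3b.powConv R A (k + 1)) =
          ofConv (toConv ((Bialgebra.counitAlgHom R A).comp (SGA3b.powConv R A k)) *
            toConv ((Bialgebra.counitAlgHom R A).comp (AlgHom.id R A))) := by
        rw [SGA3b.powConv, pow_succ, AlgHom.comp_convMul_distrib]
        rfl
      rw [e2, toConv_ofConv, ih, e1, _root_.mul_one]
  exact AlgHom.congr_fun (congrArg ofConv h) a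

section Main

variable [Coalgebra.IsCocomm R A] [Module.Finite R A] [Module.Projective R A]
  {v : A →+* FrobAlg.BaseChange p R A}

theorem relFrob_versch [CharP A p] (hv : Versch.IsVerschiebung p R A v) (a : A) :
    FrobAlg.relFrob p R A (v a) = SGA3b.powConv R A p a := by
  obtain ⟨n, b, x, hb⟩ := exists_frame R A
  rw [versch_eq p hv hb, powConv_eq p hb, map_sum]
  refine Finset.sum_congr rfl fun i _ => ?_
  rw [relFrob_tmul, RingEquiv.symm_apply_apply, Algebra.smul_def, mul_comm]

theorem versch_algebraMap (hv : Versch.IsVerschiebung p R A v) (r : R) :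
    v (algebraMap R A r) = 1 ⊗ₜ[R] FrobAlg.toTwist p R r := by
  rw [Versch.isVerschiebung_iff] at hv
  refine Versch.evTw_injective p R A fun y => ?_
  rw [hv, Versch.evTw_tmul', ← map_mul]
  congr 1
  rw [Algebra.algebraMap_eq_smul_one, CartDual.coe_apply, map_smul, smul_eq_mul, mul_comm]
  congr 1
  exact map_pow (Bialgebra.counitAlgHom R (CartDual.D R A)) y p

theorem versch_pow (hv : Versch.IsVerschiebung p R A v) (a : A) :
    v a ^ p = SGA3b.powConv R A p a ⊗ₜ[R] (1 : FrobAlg.Twist p R) := by
  obtain ⟨n, b, x, hb⟩ := exists_frame R A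
  rw [versch_eq p hv hb, powConv_eq p hb, isReduced_aux p, TensorProduct.sum_tmul]
  · refine Finset.sum_congr rfl fun i _ => ?_
    rw [Algebra.TensorProduct.tmul_pow, TensorProduct.smul_tmul, Algebra.smul_def, _root_.mul_one, ← map_pow]
    rfl
  · rw [← map_natCast (algebraMap R (FrobAlg.BaseChange p R A)) p, CharP.cast_eq_zero, map_zero]

/-- `V ∘ F = [p]` on the twist. -/
theorem versch_relFrob [CharP A p] (hv : Versch.IsVerschiebung p R A v) (a : A) (t : FrobAlg.Twist p R) :
    v (FrobAlg.relFrob p R A (a ⊗ₜ t)) = SGA3b.powConv R A p a ⊗ₜ[R] t := by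
  rw [relFrob_tmul, map_mul, map_pow, versch_pow p hv, versch_algebraMap p hv, Algebra.TensorProduct.tmul_mul_tmul,
    RingEquiv.apply_symm_apply, _root_.mul_one, _root_.one_mul]

/-- A finite group killed by `pⁿ` with bijective Verschiebung is killed by the `n`-th Frobenius. -/
theorem pow_prime_pow_eq_zero [CharP A p] (hv : Versch.IsVerschiebung p R A v) (hs : Function.Surjective v)
    (n : ℕ) (hn : SGA3b.powConv R A (p ^ n) = (Algebra.ofId R A).comp (Bialgebra.counitAlgHom R A))
    (a : A) (ha : Coalgebra.counit (R := R) a = 0) : a ^ (p ^ n) = 0 := by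
  have step : ∀ m, ∀ a : A, Coalgebra.counit (R := R) a = 0 →
      ∃ c, Coalgebra.counit (R := R) c = 0 ∧ SGA3b.powConv R A (p ^ m) c = a ^ p ^ m := by
    intro m
    induction m with
    | zero =>
      intro a ha
      refine ⟨a, ha, ?_⟩
      rw [pow_zero, pow_one, SGA3b.powConv, pow_one]
      rfl
    | succ m ih =>
      intro a ha
      obtain ⟨c, hc, hce⟩ := ih a ha
      obtain ⟨d, hd⟩ := hs (c ⊗ₜ 1)
      have hd' : SGA3b.powConv R A p d = c ^ p := by
        rw [← relFrob_versch p hv, hd, relFrob_tmul, map_one, map_one, _root_.mul_one]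
      refine ⟨d, ?_, ?_⟩
      · rw [← counit_powConv p, hd']
        have := map_pow (Bialgebra.counitAlgHom R A) c p
        rw [Bialgebra.counitAlgHom_apply, Bialgebra.counitAlgHom_apply] at this
        rw [this, hc, zero_pow (Fact.out : p.Prime).ne_zero]
      · rw [pow_succ, ← powConv_comp, hd', map_pow, hce, ← pow_mul]
  obtain ⟨c, hc, hce⟩ := step n a ha
  rw [← hce, hn]
  show algebraMap R A (Coalgebra.counit c) = 0
  rw [hc, map_zero]

end Main

section BaseChange

variable (T : Type u) [CommRing T] [Algebra R T]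

omit [Fact p.Prime] [CharP R p] in
theorem powConv_one_tmul (k : ℕ) (a : A) :
    SGA3b.powConv T (T ⊗[R] A) k (1 ⊗ₜ a) = 1 ⊗ₜ[R] SGA3b.powConv R A k a := by
  induction k generalizing a with
  | zero =>
    show algebraMap T (T ⊗[R] A) (Coalgebra.counit (R := T) ((1 : T) ⊗ₜ[R] a)) = 1 ⊗ₜ[R] algebraMap R A (Coalgebra.counit a)
    rw [TensorProduct.counit_tmul, Bialgebra.counit_one, Algebra.TensorProduct.algebraMap_apply,
      Algebra.algebraMap_self, RingHom.id_apply, Algebra.algebraMap_eq_smul_one, TensorProduct.tmul_smul,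
      ← TensorProduct.smul_tmul']
  | succ k ih =>
    let 𝓡 := Coalgebra.Repr.arbitrary R a
    have e : Coalgebra.comul (R := T) ((1 : T) ⊗ₜ[R] a) =
        ∑ i ∈ 𝓡.index, ((1 : T) ⊗ₜ[R] 𝓡.left i) ⊗ₜ[T] ((1 : T) ⊗ₜ[R] 𝓡.right i) := by
      rw [TensorProduct.comul_tmul, Bialgebra.comul_one, ← 𝓡.eq, Algebra.TensorProduct.one_def, TensorProduct.tmul_sum,
        map_sum]
      rfl
    let 𝓢 : Coalgebra.Repr T ((1 : T) ⊗ₜ[R] a) _ :=
      ⟨𝓡.index, fun i => (1 : T) ⊗ₜ[R] 𝓡.left i, fun i => (1 : T) ⊗ₜ[R] 𝓡.right i, e.symm⟩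
    have h1 : SGA3b.powConv R A (k + 1) a = ∑ i ∈ 𝓡.index, SGA3b.powConv R A k (𝓡.left i) * 𝓡.right i := by
      rw [SGA3b.powConv, pow_succ]
      exact 𝓡.convMul_apply (toConv (SGA3b.powConv R A k).toLinearMap) (toConv (AlgHom.id R A).toLinearMap)
    have h2 : SGA3b.powConv T (T ⊗[R] A) (k + 1) (1 ⊗ₜ a) =
        ∑ i ∈ 𝓢.index, SGA3b.powConv T (T ⊗[R] A) k (𝓢.left i) * 𝓢.right i := by
      rw [SGA3b.powConv, pow_succ]
      exact 𝓢.convMul_apply (toConv (SGA3b.powConv T (T ⊗[R] A) k).toLinearMap) (toConv (AlgHom.id T (T ⊗[R] A)).toLinearMap)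
    rw [h1, h2, TensorProduct.tmul_sum]
    refine Finset.sum_congr rfl fun i _ => ?_
    show SGA3b.powConv T (T ⊗[R] A) k ((1 : T) ⊗ₜ[R] 𝓡.left i) * ((1 : T) ⊗ₜ[R] 𝓡.right i) = _
    rw [ih, Algebra.TensorProduct.tmul_mul_tmul, _root_.one_mul]

end BaseChange

end Pow

end Groth.Agent.VerschLib
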