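import Groth.Agent.VerschLib.Basic
import Groth.Prelude.Def_AlphaP
import Groth.Prelude.Def_CartDual2

/-!
# The Verschiebung of `μ_p`, `ℤ/p`, `α_p`
-/

set_option autoImplicit false

universe u v

namespace Groth.Agent.VerschLib

open scoped TensorProduct
open WithConv

variable (p : ℕ) [Fact p.Prime] {R : Type u} [CommRing R] [CharP R p]
  {A : Type v} [CommRing A] [HopfAlgebra R A]

omit [Fact p.Prime] [CharP R p] in
theorem pow_apply_groupLike (x : CartDual.D R A) {g : A} (hg : IsGroupLikeElem R g) (n : ℕ) :
    (x ^ n) g = (x g) ^ n := by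
  induction n with
  | zero =>
    show algebraMap R R (Coalgebra.counit g) = _
    rw [hg.counit_eq_one, map_one, pow_zero]
  | succ n ih =>
    rw [pow_succ, LinearMap.convMul_apply, hg.comul_eq_tmul_self, TensorProduct.map_tmul, LinearMap.mul'_apply,
      pow_succ, ← ih]

theorem versch_trivial [Coalgebra.IsCocomm R A] [Module.Finite R A] [Module.Projective R A]
    {v : A →+* FrobAlg.BaseChange p R A} (hv : Versch.IsVerschiebung p R A v)
    (h : ∀ (x : CartDual.D R A) (a : A), (x ^ p) a = Coalgebra.counit a * (x 1) ^ p) (a : A) :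
    v a = 1 ⊗ₜ[R] FrobAlg.toTwist p R (Coalgebra.counit a) := by
  refine Versch.evTw_injective p R A fun x => ?_
  rw [(Versch.isVerschiebung_iff p R A v).1 hv, Versch.evTw_tmul', ← map_mul, h, mul_comm]

theorem alphaP_pow_trivial {R : Type u} [CommRing R] [CharP R p] (x : CartDual.D R (AlphaP.A p R)) (a : AlphaP.A p R) :
    (x ^ p) a = Coalgebra.counit a * (x 1) ^ p := by
  have hp0 : ((p : ℕ) : CartDual.D R (AlphaP.A p R)) = 0 := by
    rw [← map_natCast (algebraMap R (CartDual.D R (AlphaP.A p R))) p, CharP.cast_eq_zero, map_zero]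
  let y : CartDual.D R (AlphaP.A p R) := x - algebraMap R _ (x 1)
  have hc : ∀ (c : R) (a : AlphaP.A p R), (algebraMap R (CartDual.D R (AlphaP.A p R)) c) a = c * Coalgebra.counit a := by
    intro c a
    simp [CartDual.coe_apply, LinearMap.convAlgebraMap_apply, mul_comm]
  have hy1 : y 1 = 0 := by
    show x.ofConv 1 - (algebraMap R (CartDual.D R (AlphaP.A p R)) (x 1)).ofConv 1 = 0
    rw [← CartDual.coe_apply, ← CartDual.coe_apply, hc, Bialgebra.counit_one, mul_one, sub_self]
  have key : ∀ j m : ℕ, m < j → (y ^ j) (AlphaP.x p R ^ m) = 0 := by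
    intro j
    induction j with
    | zero => intro m hm; omega
    | succ j ih =>
      intro m hm
      rw [pow_succ, LinearMap.convMul_apply,
        show Coalgebra.comul (R := R) (AlphaP.x p R ^ m) = Coalgebra.comul (R := R) (AlphaP.x p R) ^ m from
          by rw [← Bialgebra.comulAlgHom_apply, map_pow, Bialgebra.comulAlgHom_apply],
        AlphaP.comul_x, add_pow, map_sum, map_sum]
      refine Finset.sum_eq_zero fun i hi => ?_
      rw [Algebra.TensorProduct.tmul_pow, Algebra.TensorProduct.tmul_pow, Algebra.TensorProduct.tmul_mul_tmul,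
        ← Nat.cast_comm, ← nsmul_eq_mul, map_nsmul, map_nsmul, TensorProduct.map_tmul, LinearMap.mul'_apply,
        one_pow, one_pow, mul_one, one_mul]
      rcases (Finset.mem_range_succ_iff.1 hi).eq_or_lt with rfl | hlt
      · rw [Nat.sub_self, pow_zero]
        show _ • ((y ^ j).ofConv _ * y.ofConv 1) = 0
        rw [← CartDual.coe_apply (x := y) (a := 1), hy1, mul_zero, smul_zero]
      · show _ • ((y ^ j).ofConv _ * y.ofConv _) = 0
        rw [← CartDual.coe_apply (x := y ^ j), ih i (by omega), zero_mul, smul_zero]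
  have hyp : ∀ a, (y ^ p) a = 0 := by
    intro a
    obtain ⟨f, rfl⟩ := AlphaP.mk_surjective p R a
    rw [← AlphaP.aeval_x, Polynomial.aeval_eq_sum_range, CartDual.coe_apply, map_sum]
    refine Finset.sum_eq_zero fun i _ => ?_
    rw [map_smul, ← CartDual.coe_apply]
    rcases lt_or_ge i p with h | h
    · rw [key p i h, smul_zero]
    · rw [AlphaP.x_pow_of_le p R h, CartDual.coe_apply, map_zero, smul_zero]
  have hx : x = y + algebraMap R _ (x 1) := (sub_add_cancel _ _).symm
  conv_lhs => rw [hx, add_pow_char, ← map_pow]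
  show (y ^ p).ofConv a + (algebraMap R (CartDual.D R (AlphaP.A p R)) (x 1 ^ p)).ofConv a = _
  rw [← CartDual.coe_apply, ← CartDual.coe_apply, hyp, hc, zero_add, mul_comm]

open MonoidAlgebra in
theorem dualGroupAlgebra_pow_trivial {R : Type u} [CommRing R] [CharP R p]
    (x : CartDual.D R (CartDual.D R (MonoidAlgebra R (Multiplicative (ZMod p)))))
    (a : CartDual.D R (MonoidAlgebra R (Multiplicative (ZMod p)))) :
    (x ^ p) a = Coalgebra.counit a * (x 1) ^ p := by
  obtain ⟨w, hw⟩ := (Module.bijective_dual_eval R (MonoidAlgebra R (Multiplicative (ZMod p)))).2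
    (x.ofConv ∘ₗ (CartDual.toDual R _).symm.toLinearMap)
  have hxw : x = CartDual.eval R _ w := by
    apply WithConv.ofConv_injective
    refine LinearMap.ext fun b => ?_
    have := LinearMap.congr_fun hw b.ofConv
    simpa [CartDual.coe_apply] using this.symm
  have hsum : w = ∑ g, single g (w.coeff g) := by
    rw [← MonoidAlgebra.sum_single w]
    simp [Finsupp.sum_fintype]
  have hp : w ^ p = algebraMap R _ (Coalgebra.counit (R := R) w ^ p) := by
    have hg : ∀ g : Multiplicative (ZMod p), g ^ p = 1 := fun g => by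
      simpa [ZMod.card] using pow_card_eq_one (x := g)
    conv_lhs => rw [hsum, isReduced_aux p (by rw [← map_natCast (algebraMap R (MonoidAlgebra R (Multiplicative (ZMod p)))) p, CharP.cast_eq_zero, map_zero])]
    simp only [single_pow, hg]
    conv_rhs => rw [hsum, map_sum, sum_pow_char p]
    rw [map_sum]
    refine Finset.sum_congr rfl fun g _ => ?_
    simp [MonoidAlgebra.counit_single, MonoidAlgebra.coe_algebraMap]
  rw [hxw, ← map_pow, hp, AlgHomClass.commutes]
  show (algebraMap R (CartDual.D R (CartDual.D R (MonoidAlgebra R (Multiplicative (ZMod p))))) _) a = _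
  simp [CartDual.coe_apply, LinearMap.convAlgebraMap_apply, LinearMap.convOne_apply, mul_comm, ← map_pow]

end Groth.Agent.VerschLib
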